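import Groth.Agent.Lib.Helper5.ArSing.Cusp.InvClosed

set_option autoImplicit false
universe u

namespace H5ArSing

open MvPowerSeries

variable (k : Type u) [Field k] (n : ℕ)

lemma hasSubst_tac (c : k) :
    HasSubst (![(PowerSeries.X : PowerSeries k), PowerSeries.C c * PowerSeries.X ^ (n + 1)] :
      Fin 2 → MvPowerSeries Unit k) := by
  apply hasSubst_of_constantCoeff_zero
  intro s
  fin_cases s
  · exact PowerSeries.constantCoeff_X
  · change PowerSeries.constantCoeff (PowerSeries.C c * PowerSeries.X ^ (n + 1)) = 0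
    simp

/-- the branch `x ↦ t, y ↦ c t^(n+1)` (`c² = 1`) of `A_(2n+1)` -/
noncomputable def tbranch (c : k) (hc : c ^ 2 = 1) : ArSing.ring k (2 * n + 1) →ₐ[k] PowerSeries k :=
  Ideal.Quotient.liftₐ _ (substAlgHom (R := k) (hasSubst_tac k n c)) (by
    intro a ha
    rw [Ideal.mem_span_singleton] at ha
    obtain ⟨d, rfl⟩ := ha
    rw [map_mul]
    have : substAlgHom (R := k) (hasSubst_tac k n c) (ArSing.eqn k (2 * n + 1)) = 0 := by
      simp only [ArSing.eqn, map_sub, map_pow, substAlgHom_X]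
      simp only [Matrix.cons_val_zero, Matrix.cons_val_one]
      rw [mul_pow, ← map_pow, hc, map_one, one_mul]
      ring
    rw [this, zero_mul])

lemma tbranch_x (c : k) (hc : c ^ 2 = 1) :
    tbranch k n c hc (ArSing.x k (2 * n + 1)) = PowerSeries.X := by
  change substAlgHom (R := k) (hasSubst_tac k n c) (X 0) = _
  rw [substAlgHom_X]; rfl

lemma tbranch_y (c : k) (hc : c ^ 2 = 1) :
    tbranch k n c hc (ArSing.y k (2 * n + 1)) = PowerSeries.C c * PowerSeries.X ^ (n + 1) := by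
  change substAlgHom (R := k) (hasSubst_tac k n c) (X 1) = _
  rw [substAlgHom_X]; rfl

lemma tbranch_xMap (c : k) (hc : c ^ 2 = 1) (a : PowerSeries k) :
    tbranch k n c hc (ArSing.xMap k (2 * n + 1) a) = a := by
  have : (tbranch k n c hc).comp (ArSing.xMap k (2 * n + 1)) = AlgHom.id k (PowerSeries k) := by
    apply ext_P (Ideal.span {(PowerSeries.X : PowerSeries k)}) (sep_P k)
    · rw [AlgHom.comp_apply, xMap_X, tbranch_x]
      exact Ideal.mem_span_singleton_self _
    · rw [AlgHom.comp_apply, xMap_X, tbranch_x]; rfl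
  exact DFunLike.congr_fun this a

/-- first branch `y = x^(n+1)` -/
noncomputable def γ₁ : ArSing.ring k (2 * n + 1) →ₐ[k] PowerSeries k := tbranch k n 1 (by norm_num)
/-- second branch `y = -x^(n+1)` -/
noncomputable def γ₂ : ArSing.ring k (2 * n + 1) →ₐ[k] PowerSeries k :=
  tbranch k n (-1) (by norm_num)

lemma γ₁_x : γ₁ k n (ArSing.x k (2 * n + 1)) = PowerSeries.X := tbranch_x k n _ _
lemma γ₂_x : γ₂ k n (ArSing.x k (2 * n + 1)) = PowerSeries.X := tbranch_x k n _ _
lemma γ₁_y : γ₁ k n (ArSing.y k (2 * n + 1)) = PowerSeries.X ^ (n + 1) := by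
  rw [γ₁, tbranch_y]; simp
lemma γ₂_y : γ₂ k n (ArSing.y k (2 * n + 1)) = -PowerSeries.X ^ (n + 1) := by
  rw [γ₂, tbranch_y]; simp

lemma γ₁_apply (a b : PowerSeries k) :
    γ₁ k n (ArSing.xMap k (2 * n + 1) a + ArSing.xMap k (2 * n + 1) b * ArSing.y k (2 * n + 1)) =
      a + PowerSeries.X ^ (n + 1) * b := by
  rw [map_add, map_mul, γ₁_y, γ₁, tbranch_xMap, tbranch_xMap]; ring

lemma γ₂_apply (a b : PowerSeries k) :
    γ₂ k n (ArSing.xMap k (2 * n + 1) a + ArSing.xMap k (2 * n + 1) b * ArSing.y k (2 * n + 1)) =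
      a - PowerSeries.X ^ (n + 1) * b := by
  rw [map_add, map_mul, γ₂_y, γ₂, tbranch_xMap, tbranch_xMap]; ring

section fibre

variable {k n}

lemma γ_ext (h2 : (2 : k) ≠ 0) {z w : ArSing.ring k (2 * n + 1)} (h1 : γ₁ k n z = γ₁ k n w)
    (h3 : γ₂ k n z = γ₂ k n w) : z = w := by
  obtain ⟨a, b, rfl⟩ := struct k (2 * n + 1) z
  obtain ⟨c, d, rfl⟩ := struct k (2 * n + 1) w
  rw [γ₁_apply, γ₁_apply] at h1
  rw [γ₂_apply, γ₂_apply] at h3
  have h2P := two_ne_zero_P h2
  have ha : a = c := by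
    have : (2 : PowerSeries k) * (a - c) = 0 := by linear_combination h1 + h3
    exact sub_eq_zero.mp ((mul_eq_zero.mp this).resolve_left h2P)
  have hb : b = d := by
    have : (2 : PowerSeries k) * (PowerSeries.X ^ (n + 1) * (b - d)) = 0 := by
      linear_combination h1 - h3
    have h4 := (mul_eq_zero.mp this).resolve_left h2P
    exact sub_eq_zero.mp ((mul_eq_zero.mp h4).resolve_left (pow_ne_zero _ PowerSeries.X_ne_zero))
  rw [ha, hb]

lemma γ_congr (z : ArSing.ring k (2 * n + 1)) :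
    PowerSeries.X ^ (n + 1) ∣ γ₁ k n z - γ₂ k n z := by
  obtain ⟨a, b, rfl⟩ := struct k (2 * n + 1) z
  rw [γ₁_apply, γ₂_apply]
  exact ⟨2 * b, by ring⟩

lemma γ_surj (h2 : (2 : k) ≠ 0) (F G : PowerSeries k)
    (h : PowerSeries.X ^ (n + 1) ∣ F - G) :
    ∃ z : ArSing.ring k (2 * n + 1), γ₁ k n z = F ∧ γ₂ k n z = G := by
  obtain ⟨d, hd⟩ := h
  have hC : PowerSeries.C (2⁻¹ : k) * 2 = 1 := by
    have : (2 : PowerSeries k) = PowerSeries.C (2 : k) := (map_ofNat PowerSeries.C 2).symm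
    rw [this, ← map_mul, inv_mul_cancel₀ h2, map_one]
  refine ⟨ArSing.xMap k (2 * n + 1) (PowerSeries.C (2⁻¹ : k) * (F + G)) +
    ArSing.xMap k (2 * n + 1) (PowerSeries.C (2⁻¹ : k) * d) * ArSing.y k (2 * n + 1), ?_, ?_⟩
  · rw [γ₁_apply]
    have : PowerSeries.X ^ (n + 1) * (PowerSeries.C (2⁻¹ : k) * d) =
        PowerSeries.C (2⁻¹ : k) * (F - G) := by
      rw [hd]; ring
    rw [this]
    linear_combination F * hC
  · rw [γ₂_apply]
    have : PowerSeries.X ^ (n + 1) * (PowerSeries.C (2⁻¹ : k) * d) =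
        PowerSeries.C (2⁻¹ : k) * (F - G) := by
      rw [hd]; ring
    rw [this]
    linear_combination G * hC

end fibre

end H5ArSing
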