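import Mathlib
import Groth.Agent.Lib.Helper5.ArSing.Tac.Branch

set_option autoImplicit false
universe u

namespace H5ArSing

open PowerSeries

variable {k : Type u} [Field k]

section quot

variable (k) (m : ℕ)

/-- the truncation ideal -/
noncomputable abbrev trI : Ideal (PowerSeries k) := Ideal.span {(X : PowerSeries k) ^ m}

/-- the truncation map -/
noncomputable abbrev trQ : PowerSeries k →ₐ[k] (PowerSeries k ⧸ trI k m) := Ideal.Quotient.mkₐ k (trI k m)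

lemma trQ_eq_iff (f g : PowerSeries k) : trQ k m f = trQ k m g ↔ X ^ m ∣ f - g := by
  rw [Ideal.Quotient.mkₐ_eq_mk, Ideal.Quotient.eq, Ideal.mem_span_singleton]

lemma trQ_sep : ⨅ n, (Ideal.span {trQ k m X}) ^ n = ⊥ := by
  have hJr : (Ideal.span {trQ k m X}) ^ m = ⊥ := by
    rw [Ideal.span_singleton_pow, ← map_pow]
    have : trQ k m (X ^ m) = 0 := by
      rw [Ideal.Quotient.mkₐ_eq_mk, Ideal.Quotient.eq_zero_iff_mem]
      exact Ideal.mem_span_singleton_self _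
    rw [this]
    exact Ideal.span_singleton_eq_bot.mpr rfl
  exact eq_bot_iff.mpr (hJr ▸ iInf_le _ m)

lemma trQ_mem_of_dvd {f : PowerSeries k} (h : X ∣ f) : trQ k m f ∈ Ideal.span {trQ k m X} := by
  obtain ⟨c, rfl⟩ := h
  rw [map_mul]
  exact Ideal.mul_mem_right _ _ (Ideal.mem_span_singleton_self _)

end quot

/-- endomorphisms congruent on `t` modulo `t^m` are congruent -/
theorem congr_ext_P (m : ℕ) (Θ₁ Θ₂ : PowerSeries k →ₐ[k] PowerSeries k) (h0 : X ∣ Θ₁ X)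
    (h : X ^ m ∣ Θ₁ X - Θ₂ X) (f : PowerSeries k) : X ^ m ∣ Θ₁ f - Θ₂ f := by
  have hFG : (trQ k m).comp Θ₁ = (trQ k m).comp Θ₂ := by
    apply ext_P _ (trQ_sep k m)
    · rw [AlgHom.comp_apply]; exact trQ_mem_of_dvd k m h0
    · rw [AlgHom.comp_apply, AlgHom.comp_apply, trQ_eq_iff]; exact h
  have h1 := DFunLike.congr_fun hFG f
  rwa [AlgHom.comp_apply, AlgHom.comp_apply, trQ_eq_iff] at h1

/-- inverses of congruent automorphisms are congruent -/
theorem congr_symm (m : ℕ) (e₁ e₂ : PowerSeries k ≃ₐ[k] PowerSeries k)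
    (h : X ^ m ∣ e₁ X - e₂ X) : X ^ m ∣ e₁.symm X - e₂.symm X := by
  have h1 := congr_ext_P m e₁.toAlgHom e₂.toAlgHom (X_dvd_algEquiv e₁) h (e₁.symm X)
  change X ^ m ∣ e₁ (e₁.symm X) - e₂ (e₁.symm X) at h1
  rw [AlgEquiv.apply_symm_apply] at h1
  have h2 := dvd_algHom_of_dvd e₂.symm.toAlgHom (X_dvd_algEquiv e₂.symm) h1
  change X ^ m ∣ e₂.symm (X - e₂ (e₁.symm X)) at h2
  rw [map_sub, AlgEquiv.symm_apply_apply] at h2
  have : e₁.symm X - e₂.symm X = -(e₂.symm X - e₁.symm X) := by ring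
  rw [this]
  exact (dvd_neg).mpr h2

/-- algebra maps out of `A_r` congruent on `x`, `y` modulo `t^m` are congruent -/
theorem congr_ext_A (r m : ℕ) (f₁ f₂ : ArSing.ring k r →ₐ[k] PowerSeries k)
    (hx : X ^ m ∣ f₁ (ArSing.x k r) - f₂ (ArSing.x k r))
    (hy : X ^ m ∣ f₁ (ArSing.y k r) - f₂ (ArSing.y k r)) (z : ArSing.ring k r) :
    X ^ m ∣ f₁ z - f₂ z := by
  have hFG : (trQ k m).comp f₁ = (trQ k m).comp f₂ := by
    apply ext_A k r _ (trQ_sep k m)
    · rw [AlgHom.comp_apply]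
      exact trQ_mem_of_dvd k m (X_dvd_iff.mpr (cc_of_mem_𝔫' f₁ (x_mem k r)))
    · rw [AlgHom.comp_apply]
      exact trQ_mem_of_dvd k m (X_dvd_iff.mpr (cc_of_mem_𝔫' f₁ (y_mem k r)))
    · rw [AlgHom.comp_apply, AlgHom.comp_apply, trQ_eq_iff]; exact hx
    · rw [AlgHom.comp_apply, AlgHom.comp_apply, trQ_eq_iff]; exact hy
  have h1 := DFunLike.congr_fun hFG z
  rwa [AlgHom.comp_apply, AlgHom.comp_apply, trQ_eq_iff] at h1

end H5ArSing
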