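import Mathlib
import Groth.Agent.Lib.Helper5.ArSing.Tac.Congr

set_option autoImplicit false
universe u

namespace H5ArSing

open PowerSeries

variable {k : Type u} [Field k]

section pair

variable (h2 : (2 : k) ≠ 0) (n : ℕ)

/-- the element of `A_(2n+1)` with prescribed branches -/
noncomputable def tpairFun (f₁ f₂ : ArSing.ring k (2 * n + 1) →ₐ[k] PowerSeries k)
    (hf : ∀ z, X ^ (n + 1) ∣ f₁ z - f₂ z) (z : ArSing.ring k (2 * n + 1)) :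
    ArSing.ring k (2 * n + 1) :=
  (γ_surj h2 (f₁ z) (f₂ z) (hf z)).choose

lemma γ₁_tpairFun (f₁ f₂ : ArSing.ring k (2 * n + 1) →ₐ[k] PowerSeries k)
    (hf : ∀ z, X ^ (n + 1) ∣ f₁ z - f₂ z) (z : ArSing.ring k (2 * n + 1)) :
    γ₁ k n (tpairFun h2 n f₁ f₂ hf z) = f₁ z :=
  (γ_surj h2 (f₁ z) (f₂ z) (hf z)).choose_spec.1

lemma γ₂_tpairFun (f₁ f₂ : ArSing.ring k (2 * n + 1) →ₐ[k] PowerSeries k)
    (hf : ∀ z, X ^ (n + 1) ∣ f₁ z - f₂ z) (z : ArSing.ring k (2 * n + 1)) :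
    γ₂ k n (tpairFun h2 n f₁ f₂ hf z) = f₂ z :=
  (γ_surj h2 (f₁ z) (f₂ z) (hf z)).choose_spec.2

/-- the endomorphism of `A_(2n+1)` with prescribed branch maps -/
noncomputable def thomOfPair (f₁ f₂ : ArSing.ring k (2 * n + 1) →ₐ[k] PowerSeries k)
    (hf : ∀ z, X ^ (n + 1) ∣ f₁ z - f₂ z) :
    ArSing.ring k (2 * n + 1) →ₐ[k] ArSing.ring k (2 * n + 1) :=
  AlgHom.ofLinearMap
    { toFun := tpairFun h2 n f₁ f₂ hf
      map_add' := fun z w => by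
        apply γ_ext h2
        · rw [map_add, γ₁_tpairFun, γ₁_tpairFun, γ₁_tpairFun, map_add]
        · rw [map_add, γ₂_tpairFun, γ₂_tpairFun, γ₂_tpairFun, map_add]
      map_smul' := fun c z => by
        apply γ_ext h2
        · rw [RingHom.id_apply, map_smul, γ₁_tpairFun, γ₁_tpairFun, map_smul]
        · rw [RingHom.id_apply, map_smul, γ₂_tpairFun, γ₂_tpairFun, map_smul] }
    (by
      apply γ_ext h2
      · change γ₁ k n (tpairFun h2 n f₁ f₂ hf 1) = _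
        rw [γ₁_tpairFun, map_one, map_one]
      · change γ₂ k n (tpairFun h2 n f₁ f₂ hf 1) = _
        rw [γ₂_tpairFun, map_one, map_one])
    (fun z w => by
      apply γ_ext h2
      · change γ₁ k n (tpairFun h2 n f₁ f₂ hf (z * w)) =
          γ₁ k n (tpairFun h2 n f₁ f₂ hf z * tpairFun h2 n f₁ f₂ hf w)
        rw [map_mul, γ₁_tpairFun, γ₁_tpairFun, γ₁_tpairFun, map_mul]
      · change γ₂ k n (tpairFun h2 n f₁ f₂ hf (z * w)) =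
          γ₂ k n (tpairFun h2 n f₁ f₂ hf z * tpairFun h2 n f₁ f₂ hf w)
        rw [map_mul, γ₂_tpairFun, γ₂_tpairFun, γ₂_tpairFun, map_mul])

lemma γ₁_thomOfPair (f₁ f₂ : ArSing.ring k (2 * n + 1) →ₐ[k] PowerSeries k)
    (hf : ∀ z, X ^ (n + 1) ∣ f₁ z - f₂ z) (z : ArSing.ring k (2 * n + 1)) :
    γ₁ k n (thomOfPair h2 n f₁ f₂ hf z) = f₁ z := γ₁_tpairFun h2 n f₁ f₂ hf z

lemma γ₂_thomOfPair (f₁ f₂ : ArSing.ring k (2 * n + 1) →ₐ[k] PowerSeries k)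
    (hf : ∀ z, X ^ (n + 1) ∣ f₁ z - f₂ z) (z : ArSing.ring k (2 * n + 1)) :
    γ₂ k n (thomOfPair h2 n f₁ f₂ hf z) = f₂ z := γ₂_tpairFun h2 n f₁ f₂ hf z

/-- automorphism of `A_(2n+1)` from branch data -/
noncomputable def tequivOfPair (f₁ f₂ g₁ g₂ : ArSing.ring k (2 * n + 1) →ₐ[k] PowerSeries k)
    (hf : ∀ z, X ^ (n + 1) ∣ f₁ z - f₂ z) (hg : ∀ z, X ^ (n + 1) ∣ g₁ z - g₂ z)
    (h11 : ∀ z, f₁ (thomOfPair h2 n g₁ g₂ hg z) = γ₁ k n z)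
    (h12 : ∀ z, f₂ (thomOfPair h2 n g₁ g₂ hg z) = γ₂ k n z)
    (h21 : ∀ z, g₁ (thomOfPair h2 n f₁ f₂ hf z) = γ₁ k n z)
    (h22 : ∀ z, g₂ (thomOfPair h2 n f₁ f₂ hf z) = γ₂ k n z) :
    ArSing.ring k (2 * n + 1) ≃ₐ[k] ArSing.ring k (2 * n + 1) :=
  AlgEquiv.ofAlgHom (thomOfPair h2 n f₁ f₂ hf) (thomOfPair h2 n g₁ g₂ hg)
    (by
      ext z
      apply γ_ext h2
      · rw [AlgHom.comp_apply, γ₁_thomOfPair, h11]; rfl
      · rw [AlgHom.comp_apply, γ₂_thomOfPair, h12]; rfl)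
    (by
      ext z
      apply γ_ext h2
      · rw [AlgHom.comp_apply, γ₁_thomOfPair, h21]; rfl
      · rw [AlgHom.comp_apply, γ₂_thomOfPair, h22]; rfl)

end pair

section congr

variable (n : ℕ) (Θ₁ Θ₂ : PowerSeries k →ₐ[k] PowerSeries k) (h1 : X ∣ Θ₁ X) (h2' : X ∣ Θ₂ X)
  (h : X ^ (n + 1) ∣ Θ₁ X - Θ₂ X)

include h1 h2' h in
lemma pair_congr (z : ArSing.ring k (2 * n + 1)) :
    X ^ (n + 1) ∣ (Θ₁.comp (γ₁ k n)) z - (Θ₂.comp (γ₂ k n)) z := by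
  apply congr_ext_A
  · rw [AlgHom.comp_apply, AlgHom.comp_apply, γ₁_x, γ₂_x]; exact h
  · rw [AlgHom.comp_apply, AlgHom.comp_apply, γ₁_y, γ₂_y, map_neg, map_pow, map_pow]
    exact dvd_sub (pow_dvd_pow_of_dvd h1 _) ((dvd_neg).mpr (pow_dvd_pow_of_dvd h2' _))

include h1 h2' h in
lemma pair_congr_swap (z : ArSing.ring k (2 * n + 1)) :
    X ^ (n + 1) ∣ (Θ₁.comp (γ₂ k n)) z - (Θ₂.comp (γ₁ k n)) z := by
  apply congr_ext_A
  · rw [AlgHom.comp_apply, AlgHom.comp_apply, γ₁_x, γ₂_x]; exact h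
  · rw [AlgHom.comp_apply, AlgHom.comp_apply, γ₁_y, γ₂_y, map_neg, map_pow, map_pow]
    exact dvd_sub ((dvd_neg).mpr (pow_dvd_pow_of_dvd h1 _)) (pow_dvd_pow_of_dvd h2' _)

end congr

end H5ArSing
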