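import Mathlib
import Groth.Agent.Lib.Helper5.ArSing.Tac.Pair

set_option autoImplicit false
universe u

namespace H5ArSing

open PowerSeries

variable {k : Type u} [Field k]

lemma γ₁_surjective (n : ℕ) : Function.Surjective (γ₁ k n) := fun F =>
  ⟨ArSing.xMap k (2 * n + 1) F, by rw [γ₁, tbranch_xMap]⟩

lemma γ₂_surjective (n : ℕ) : Function.Surjective (γ₂ k n) := fun F =>
  ⟨ArSing.xMap k (2 * n + 1) F, by rw [γ₂, tbranch_xMap]⟩

section uv

variable (k) (n : ℕ)

/-- `y + x^(n+1)` -/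
noncomputable def tu : ArSing.ring k (2 * n + 1) :=
  ArSing.y k (2 * n + 1) + ArSing.xMap k (2 * n + 1) (X ^ (n + 1))
/-- `y - x^(n+1)` -/
noncomputable def tv : ArSing.ring k (2 * n + 1) :=
  ArSing.y k (2 * n + 1) - ArSing.xMap k (2 * n + 1) (X ^ (n + 1))

lemma γ₁_tu : γ₁ k n (tu k n) = 2 * X ^ (n + 1) := by
  rw [tu, map_add, γ₁_y, γ₁, tbranch_xMap]; ring
lemma γ₂_tu : γ₂ k n (tu k n) = 0 := by
  rw [tu, map_add, γ₂_y, γ₂, tbranch_xMap]; ring
lemma γ₁_tv : γ₁ k n (tv k n) = 0 := by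
  rw [tv, map_sub, γ₁_y, γ₁, tbranch_xMap]; ring
lemma γ₂_tv : γ₂ k n (tv k n) = -2 * X ^ (n + 1) := by
  rw [tv, map_sub, γ₂_y, γ₂, tbranch_xMap]; ring

variable {k n}

lemma tu_mul_tv (h2 : (2 : k) ≠ 0) : tu k n * tv k n = 0 := by
  apply γ_ext h2
  · rw [map_mul, γ₁_tv, mul_zero, map_zero]
  · rw [map_mul, γ₂_tu, zero_mul, map_zero]

lemma tu_ne_zero (h2 : (2 : k) ≠ 0) : tu k n ≠ 0 := by
  intro h
  have h3 := γ₁_tu k n
  rw [h, map_zero] at h3
  exact (mul_ne_zero (two_ne_zero_P h2) (pow_ne_zero _ X_ne_zero)) h3.symm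

lemma tv_ne_zero (h2 : (2 : k) ≠ 0) : tv k n ≠ 0 := by
  intro h
  have h3 := γ₂_tv k n
  rw [h, map_zero] at h3
  have : (-2 : PowerSeries k) ≠ 0 := neg_ne_zero.mpr (two_ne_zero_P h2)
  exact (mul_ne_zero this (pow_ne_zero _ X_ne_zero)) h3.symm

lemma ker_γ₁ (z : ArSing.ring k (2 * n + 1)) (hz : γ₁ k n z = 0) : ∃ w, z = tv k n * w := by
  obtain ⟨a, b, rfl⟩ := struct k (2 * n + 1) z
  rw [γ₁_apply] at hz
  refine ⟨ArSing.xMap k (2 * n + 1) b, ?_⟩
  have ha : a = -(X ^ (n + 1) * b) := eq_neg_of_add_eq_zero_left hz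
  rw [ha, tv, map_neg, map_mul]
  ring

lemma ker_γ₂ (z : ArSing.ring k (2 * n + 1)) (hz : γ₂ k n z = 0) : ∃ w, z = tu k n * w := by
  obtain ⟨a, b, rfl⟩ := struct k (2 * n + 1) z
  rw [γ₂_apply] at hz
  refine ⟨ArSing.xMap k (2 * n + 1) b, ?_⟩
  have ha : a = X ^ (n + 1) * b := sub_eq_zero.mp hz
  rw [ha, tu, map_mul]
  ring

end uv

/-- descend a map along a surjective map -/
noncomputable def desc' {r : ℕ} (b : ArSing.ring k r →ₐ[k] PowerSeries k)
    (hb : Function.Surjective b)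
    (g : ArSing.ring k r →ₐ[k] PowerSeries k) (H : ∀ z, b z = 0 → g z = 0) :
    PowerSeries k →ₐ[k] PowerSeries k :=
  AlgHom.liftOfSurjective b hb g (fun z hz => by
    rw [RingHom.mem_ker] at hz ⊢
    exact H z hz)

lemma desc'_apply {r : ℕ} (b : ArSing.ring k r →ₐ[k] PowerSeries k) (hb : Function.Surjective b)
    (g : ArSing.ring k r →ₐ[k] PowerSeries k) (H : ∀ z, b z = 0 → g z = 0)
    (z : ArSing.ring k r) : desc' b hb g H (b z) = g z :=
  AlgHom.liftOfSurjective_apply b hb g _ z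

/-- every algebra endomorphism of `k⟦t⟧` sends `t` into `(t)` -/
lemma X_dvd_algHom (Θ : PowerSeries k →ₐ[k] PowerSeries k) : X ∣ Θ X := by
  rw [X_dvd_iff]
  by_contra hc
  set c := constantCoeff (Θ X) with hcdef
  have hu : IsUnit ((X : PowerSeries k) - C c) := by
    rw [isUnit_iff_constantCoeff, map_sub, constantCoeff_X, constantCoeff_C, zero_sub]
    exact isUnit_iff_ne_zero.mpr (neg_ne_zero.mpr hc)
  have hu' := hu.map Θ
  rw [map_sub, algHom_C, isUnit_iff_constantCoeff, map_sub, constantCoeff_C, ← hcdef, sub_self] at hu'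
  exact not_isUnit_zero hu'

lemma cc_algHom_P (Θ : PowerSeries k →ₐ[k] PowerSeries k) (f : PowerSeries k) :
    constantCoeff (Θ f) = constantCoeff f := by
  have h1 : X ∣ f - C (constantCoeff f) := by
    rw [X_dvd_iff, map_sub, constantCoeff_C, sub_self]
  have h3 := dvd_algHom_of_dvd Θ (X_dvd_algHom Θ) (n := 1) (by simpa using h1)
  rw [pow_one, X_dvd_iff, map_sub, algHom_C, map_sub, constantCoeff_C, sub_eq_zero] at h3
  exact h3

/-- automorphism of `k⟦t⟧` with prescribed value at `t` -/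
theorem exists_algEquiv_X (p : PowerSeries k) (hp0 : constantCoeff p = 0) (hp1 : coeff 1 p ≠ 0) :
    ∃ e : PowerSeries k ≃ₐ[k] PowerSeries k, e X = p := by
  have hpu : IsUnit (coeff 1 p) := isUnit_iff_ne_zero.mpr hp1
  set pinv := p.substInvOfIsUnit hpu with hpinv
  have hpS : HasSubst p := .of_constantCoeff_zero' hp0
  have hqS : HasSubst pinv := HasSubst.substInvOfIsUnit p hpu
  have hr : p.subst pinv = X := subst_substInvOfIsUnit_right p hp0 hpu
  have hl : pinv.subst p = X := subst_substInvOfIsUnit_left p hp0 hpu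
  have h₁ : (substAlgHom hpS).comp (substAlgHom hqS) = AlgHom.id k (PowerSeries k) := by
    apply H5PSInv.algHom_ext_X
    · rw [AlgHom.comp_apply, substAlgHom_X, coe_substAlgHom, hl]; rfl
    · rw [AlgHom.comp_apply, substAlgHom_X, coe_substAlgHom, hl]; simp
  have h₂ : (substAlgHom hqS).comp (substAlgHom hpS) = AlgHom.id k (PowerSeries k) := by
    apply H5PSInv.algHom_ext_X
    · rw [AlgHom.comp_apply, substAlgHom_X, coe_substAlgHom, hr]; rfl
    · rw [AlgHom.comp_apply, substAlgHom_X, coe_substAlgHom, hr]; simp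
  exact ⟨AlgEquiv.ofAlgHom (substAlgHom hpS) (substAlgHom hqS) h₁ h₂, substAlgHom_X hpS⟩

end H5ArSing
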