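import Mathlib
import Groth.Agent.Lib.Helper5.ArSing.Tac.Tools

set_option autoImplicit false
universe u

namespace H5ArSing

open PowerSeries

variable {k : Type u} [Field k]

/-- an endomorphism tangent to the identity which is an involution modulo `t^m` is the identity
modulo `t^m` -/
theorem unip (h2 : (2 : k) ≠ 0) (m : ℕ) (Θ Θ' : PowerSeries k →ₐ[k] PowerSeries k)
    (hinv : Θ (Θ' X) = X) (hc : coeff 1 (Θ X) = 1) (hcong : X ^ m ∣ Θ X - Θ' X) :
    X ^ m ∣ Θ X - X := by
  have key : X ^ m ∣ (Θ X - X) + Θ (Θ X - X) := by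
    have h1 := dvd_algHom_of_dvd Θ (X_dvd_algHom Θ) hcong
    rw [map_sub, hinv] at h1
    have : (Θ X - X) + Θ (Θ X - X) = Θ (Θ X) - X := by rw [map_sub]; ring
    rw [this]; exact h1
  obtain ⟨u, hu⟩ := X_dvd_algHom Θ
  have hu1 : constantCoeff u = 1 := by
    rw [hu] at hc
    rw [← coeff_zero_eq_constantCoeff_apply, ← coeff_succ_X_mul]
    exact hc
  have hind : ∀ j, j ≤ m → X ^ j ∣ Θ X - X := by
    intro j
    induction j with
    | zero => intro _; simp
    | succ j ih =>
      intro hj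
      obtain ⟨e, he⟩ := ih (by omega)
      have h3 : (Θ X - X) + Θ (Θ X - X) = X ^ j * (e + u ^ j * Θ e) := by
        rw [he, map_mul, map_pow, hu]; ring
      rw [h3] at key
      have h4 : X ^ (j + 1) ∣ X ^ j * (e + u ^ j * Θ e) :=
        dvd_trans (pow_dvd_pow X hj) key
      rw [pow_succ] at h4
      have h5 := (mul_dvd_mul_iff_left (pow_ne_zero j X_ne_zero)).mp h4
      rw [X_dvd_iff, map_add, map_mul, map_pow, hu1, one_pow, one_mul, cc_algHom_P] at h5
      have h6 : constantCoeff e = 0 := by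
        have : (2 : k) * constantCoeff e = 0 := by linear_combination h5
        exact (mul_eq_zero.mp this).resolve_left h2
      obtain ⟨e', he'⟩ := X_dvd_iff.mpr h6
      exact ⟨e', by rw [he, he']; ring⟩
  exact hind m le_rfl

section values

variable (h2 : (2 : k) ≠ 0) {n : ℕ}

include h2 in
/-- read off the images of `x` and `y` from the branches -/
lemma tvalues (τ : ArSing.ring k (2 * n + 1) → ArSing.ring k (2 * n + 1))
    (a b : ArSing.ring k (2 * n + 1))
    (hx1 : γ₁ k n (τ (ArSing.x k (2 * n + 1))) = γ₁ k n a)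
    (hx2 : γ₂ k n (τ (ArSing.x k (2 * n + 1))) = γ₂ k n a)
    (hy1 : γ₁ k n (τ (ArSing.y k (2 * n + 1))) = γ₁ k n b)
    (hy2 : γ₂ k n (τ (ArSing.y k (2 * n + 1))) = γ₂ k n b) :
    τ (ArSing.x k (2 * n + 1)) = a ∧ τ (ArSing.y k (2 * n + 1)) = b :=
  ⟨γ_ext h2 hx1 hx2, γ_ext h2 hy1 hy2⟩

end values

lemma rescale_neg_one_X : rescale (-1 : k) (X : PowerSeries k) = -X := by
  rw [rescale_X]; simp

lemma rescale_neg_one_X_pow (j : ℕ) :
    rescale (-1 : k) ((X : PowerSeries k) ^ j) = (-1) ^ j * X ^ j := by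
  rw [map_pow, rescale_neg_one_X, neg_pow]

end H5ArSing
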