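import Mathlib
import Groth.Agent.Lib.Helper5.ArSing.Tac.Unip
import Groth.Agent.Lib.Helper5.ArSing.NodeInv

set_option autoImplicit false
universe u

namespace H5ArSing

open PowerSeries

variable {k : Type u} [Field k]

lemma coeff_one_eq_of_dvd {n : ℕ} (hn : 1 ≤ n) {f g : PowerSeries k}
    (h : X ^ (n + 1) ∣ f - g) : coeff 1 f = coeff 1 g := by
  have := (X_pow_dvd_iff.mp h) 1 (by omega)
  rw [map_sub] at this
  exact sub_eq_zero.mp this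

section preserve

variable (h2 : (2 : k) ≠ 0) (n : ℕ) (hn : 1 ≤ n)
  (σ : ArSing.ring k (2 * n + 1) ≃ₐ[k] ArSing.ring k (2 * n + 1)) (hσ : ∀ a, σ (σ a) = a)

include h2 hn hσ in
theorem tac_preserve (hne : σ ≠ AlgEquiv.refl) (hB : γ₁ k n (σ (tv k n)) = 0) :
    ∃ φ : ArSing.ring k (2 * n + 1) ≃ₐ[k] ArSing.ring k (2 * n + 1),
      φ.symm (σ (φ (ArSing.x k (2 * n + 1)))) = -ArSing.x k (2 * n + 1) ∧
      φ.symm (σ (φ (ArSing.y k (2 * n + 1)))) = (-1) ^ (n + 1) * ArSing.y k (2 * n + 1) := by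
  have hB' : γ₂ k n (σ (tu k n)) = 0 := by
    have h0 : γ₂ k n (σ (tu k n)) * γ₂ k n (σ (tv k n)) = 0 := by
      rw [← map_mul, ← map_mul, tu_mul_tv h2, map_zero, map_zero]
    rcases mul_eq_zero.mp h0 with h | h
    · exact h
    · exfalso
      have h1 : σ (tv k n) = 0 := γ_ext h2 (by rw [hB, map_zero]) (by rw [h, map_zero])
      have h3 : tv k n = 0 := by rw [← hσ (tv k n), h1, map_zero]
      exact tv_ne_zero h2 h3
  have H1 : ∀ z, γ₁ k n z = 0 → ((γ₁ k n).comp σ.toAlgHom) z = 0 := by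
    intro z hz
    obtain ⟨w, rfl⟩ := ker_γ₁ z hz
    change γ₁ k n (σ _) = 0
    rw [map_mul, map_mul, hB, zero_mul]
  have H2 : ∀ z, γ₂ k n z = 0 → ((γ₂ k n).comp σ.toAlgHom) z = 0 := by
    intro z hz
    obtain ⟨w, rfl⟩ := ker_γ₂ z hz
    change γ₂ k n (σ _) = 0
    rw [map_mul, map_mul, hB', zero_mul]
  set s₁ := desc' (γ₁ k n) (γ₁_surjective n) ((γ₁ k n).comp σ.toAlgHom) H1 with hs₁def
  set s₂ := desc' (γ₂ k n) (γ₂_surjective n) ((γ₂ k n).comp σ.toAlgHom) H2 with hs₂def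
  have hs₁ : ∀ z, s₁ (γ₁ k n z) = γ₁ k n (σ z) := fun z => desc'_apply _ _ _ H1 z
  have hs₂ : ∀ z, s₂ (γ₂ k n z) = γ₂ k n (σ z) := fun z => desc'_apply _ _ _ H2 z
  have hs₁s₁ : ∀ f, s₁ (s₁ f) = f := by
    intro f
    obtain ⟨z, rfl⟩ := γ₁_surjective n f
    rw [hs₁, hs₁, hσ]
  have hs₂s₂ : ∀ f, s₂ (s₂ f) = f := by
    intro f
    obtain ⟨z, rfl⟩ := γ₂_surjective n f
    rw [hs₂, hs₂, hσ]
  let e₁ : PowerSeries k ≃ₐ[k] PowerSeries k := AlgEquiv.ofAlgHom s₁ s₁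
    (AlgHom.ext hs₁s₁) (AlgHom.ext hs₁s₁)
  let e₂ : PowerSeries k ≃ₐ[k] PowerSeries k := AlgEquiv.ofAlgHom s₂ s₂
    (AlgHom.ext hs₂s₂) (AlgHom.ext hs₂s₂)
  obtain ⟨hξ₁, φ₁, hφ₁X, hφ₁⟩ := H5PSInv.main h2 e₁ hs₁s₁
  obtain ⟨hξ₂, φ₂, hφ₂X, hφ₂⟩ := H5PSInv.main h2 e₂ hs₂s₂
  -- the two branch involutions are congruent
  have hcong : X ^ (n + 1) ∣ e₁ X - e₂ X := by
    have h1 : e₁ X = γ₁ k n (σ (ArSing.x k (2 * n + 1))) := by
      change s₁ X = _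
      rw [← hs₁, γ₁_x]
    have h3 : e₂ X = γ₂ k n (σ (ArSing.x k (2 * n + 1))) := by
      change s₂ X = _
      rw [← hs₂, γ₂_x]
    rw [h1, h3]
    exact γ_congr _
  have hξeq : coeff 1 (e₁ X) = coeff 1 (e₂ X) := coeff_one_eq_of_dvd hn hcong
  rw [← hξeq] at hξ₂ hφ₂X hφ₂
  set ξ := coeff 1 (e₁ X) with hξdef
  rcases sq_eq_one_cases hξ₁ with h1 | h1
  · -- ξ = 1: trivial involution
    exfalso
    apply hne
    have hid₁ : ∀ f, e₁ f = f := by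
      intro f
      have := hφ₁ (φ₁.symm f)
      rw [h1, rescale_one, RingHom.id_apply, AlgEquiv.apply_symm_apply] at this
      have h3 := congrArg φ₁ this
      rwa [AlgEquiv.apply_symm_apply, AlgEquiv.apply_symm_apply] at h3
    have hid₂ : ∀ f, e₂ f = f := by
      intro f
      have := hφ₂ (φ₂.symm f)
      rw [h1, rescale_one, RingHom.id_apply, AlgEquiv.apply_symm_apply] at this
      have h3 := congrArg φ₂ this
      rwa [AlgEquiv.apply_symm_apply, AlgEquiv.apply_symm_apply] at h3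
    ext z
    apply γ_ext h2
    · rw [← hs₁]; exact hid₁ _
    · rw [← hs₂]; exact hid₂ _
  · -- ξ = -1
    have hφcong : X ^ (n + 1) ∣ φ₁.toAlgHom X - φ₂.toAlgHom X := by
      change X ^ (n + 1) ∣ φ₁ X - φ₂ X
      rw [hφ₁X, hφ₂X]
      have : C (2⁻¹ : k) * (X + C ξ * e₁ X) - C (2⁻¹ : k) * (X + C ξ * e₂ X) =
          (C (2⁻¹ : k) * C ξ) * (e₁ X - e₂ X) := by ring
      rw [this]
      exact Dvd.dvd.mul_left hcong _
    have hφcong' : X ^ (n + 1) ∣ φ₁.symm.toAlgHom X - φ₂.symm.toAlgHom X :=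
      congr_symm (n + 1) φ₁ φ₂ hφcong
    have hf := pair_congr n φ₁.toAlgHom φ₂.toAlgHom (X_dvd_algEquiv φ₁) (X_dvd_algEquiv φ₂) hφcong
    have hg := pair_congr n φ₁.symm.toAlgHom φ₂.symm.toAlgHom (X_dvd_algEquiv φ₁.symm)
      (X_dvd_algEquiv φ₂.symm) hφcong'
    let ψ := tequivOfPair h2 n (φ₁.toAlgHom.comp (γ₁ k n)) (φ₂.toAlgHom.comp (γ₂ k n))
      (φ₁.symm.toAlgHom.comp (γ₁ k n)) (φ₂.symm.toAlgHom.comp (γ₂ k n)) hf hg
      (fun z => by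
        rw [AlgHom.comp_apply, γ₁_thomOfPair, AlgHom.comp_apply]
        exact φ₁.apply_symm_apply _)
      (fun z => by
        rw [AlgHom.comp_apply, γ₂_thomOfPair, AlgHom.comp_apply]
        exact φ₂.apply_symm_apply _)
      (fun z => by
        rw [AlgHom.comp_apply, γ₁_thomOfPair, AlgHom.comp_apply]
        exact φ₁.symm_apply_apply _)
      (fun z => by
        rw [AlgHom.comp_apply, γ₂_thomOfPair, AlgHom.comp_apply]
        exact φ₂.symm_apply_apply _)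
    have hψ1 : ∀ z, γ₁ k n (ψ z) = φ₁ (γ₁ k n z) := fun z => γ₁_thomOfPair h2 n _ _ hf z
    have hψ2 : ∀ z, γ₂ k n (ψ z) = φ₂ (γ₂ k n z) := fun z => γ₂_thomOfPair h2 n _ _ hf z
    have hψs1 : ∀ z, γ₁ k n (ψ.symm z) = φ₁.symm (γ₁ k n z) := fun z => γ₁_thomOfPair h2 n _ _ hg z
    have hψs2 : ∀ z, γ₂ k n (ψ.symm z) = φ₂.symm (γ₂ k n z) := fun z => γ₂_thomOfPair h2 n _ _ hg z
    have hθ1 : ∀ z, γ₁ k n (ψ.symm (σ (ψ z))) = rescale (-1 : k) (γ₁ k n z) := by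
      intro z
      rw [hψs1, ← hs₁, hψ1, ← h1]
      exact hφ₁ _
    have hθ2 : ∀ z, γ₂ k n (ψ.symm (σ (ψ z))) = rescale (-1 : k) (γ₂ k n z) := by
      intro z
      rw [hψs2, ← hs₂, hψ2, ← h1]
      exact hφ₂ _
    refine ⟨ψ, ?_⟩
    apply tvalues h2 (fun z => ψ.symm (σ (ψ z)))
    · rw [hθ1, γ₁_x, rescale_neg_one_X, map_neg, γ₁_x]
    · rw [hθ2, γ₂_x, rescale_neg_one_X, map_neg, γ₂_x]
    · rw [hθ1, γ₁_y, rescale_neg_one_X_pow, map_mul, map_pow, map_neg, map_one, γ₁_y]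
    · rw [hθ2, γ₂_y, map_neg, rescale_neg_one_X_pow, map_mul, map_pow, map_neg, map_one, γ₂_y]
      ring

end preserve

end H5ArSing
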