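import Mathlib
import Groth.Agent.Lib.Helper5.ArSing.Tac.Preserve

set_option autoImplicit false
universe u

namespace H5ArSing

open PowerSeries

variable {k : Type u} [Field k]

/-- `t ↦ -t` as an automorphism -/
noncomputable def ngE : PowerSeries k ≃ₐ[k] PowerSeries k :=
  AlgEquiv.ofAlgHom ng ng (AlgHom.ext ng_ng) (AlgHom.ext ng_ng)

lemma ngE_apply (f : PowerSeries k) : (ngE : PowerSeries k ≃ₐ[k] PowerSeries k) f = ng f := rfl
lemma ngE_symm_apply (f : PowerSeries k) :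
    (ngE : PowerSeries k ≃ₐ[k] PowerSeries k).symm f = ng f := rfl

section swap

variable (h2 : (2 : k) ≠ 0) (n : ℕ) (hn : 1 ≤ n)
  (σ : ArSing.ring k (2 * n + 1) ≃ₐ[k] ArSing.ring k (2 * n + 1)) (hσ : ∀ a, σ (σ a) = a)

include h2 hn hσ in
theorem tac_swap (hA : γ₁ k n (σ (tu k n)) = 0) :
    ∃ φ : ArSing.ring k (2 * n + 1) ≃ₐ[k] ArSing.ring k (2 * n + 1),
      (φ.symm (σ (φ (ArSing.x k (2 * n + 1)))) = ArSing.x k (2 * n + 1) ∧
        φ.symm (σ (φ (ArSing.y k (2 * n + 1)))) = -ArSing.y k (2 * n + 1)) ∨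
      (φ.symm (σ (φ (ArSing.x k (2 * n + 1)))) = -ArSing.x k (2 * n + 1) ∧
        φ.symm (σ (φ (ArSing.y k (2 * n + 1)))) = -((-1) ^ (n + 1) * ArSing.y k (2 * n + 1))) := by
  have hA' : γ₂ k n (σ (tv k n)) = 0 := by
    have h0 : γ₂ k n (σ (tu k n)) * γ₂ k n (σ (tv k n)) = 0 := by
      rw [← map_mul, ← map_mul, tu_mul_tv h2, map_zero, map_zero]
    rcases mul_eq_zero.mp h0 with h | h
    · exfalso
      have h1 : σ (tu k n) = 0 := γ_ext h2 (by rw [hA, map_zero]) (by rw [h, map_zero])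
      have h3 : tu k n = 0 := by rw [← hσ (tu k n), h1, map_zero]
      exact tu_ne_zero h2 h3
    · exact h
  have H1 : ∀ z, γ₂ k n z = 0 → ((γ₁ k n).comp σ.toAlgHom) z = 0 := by
    intro z hz
    obtain ⟨w, rfl⟩ := ker_γ₂ z hz
    change γ₁ k n (σ _) = 0
    rw [map_mul, map_mul, hA, zero_mul]
  have H2 : ∀ z, γ₁ k n z = 0 → ((γ₂ k n).comp σ.toAlgHom) z = 0 := by
    intro z hz
    obtain ⟨w, rfl⟩ := ker_γ₁ z hz
    change γ₂ k n (σ _) = 0
    rw [map_mul, map_mul, hA', zero_mul]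
  set τ := desc' (γ₂ k n) (γ₂_surjective n) ((γ₁ k n).comp σ.toAlgHom) H1 with hτdef
  set τ' := desc' (γ₁ k n) (γ₁_surjective n) ((γ₂ k n).comp σ.toAlgHom) H2 with hτ'def
  have hτ : ∀ z, τ (γ₂ k n z) = γ₁ k n (σ z) := fun z => desc'_apply _ _ _ H1 z
  have hτ' : ∀ z, τ' (γ₁ k n z) = γ₂ k n (σ z) := fun z => desc'_apply _ _ _ H2 z
  have hττ' : ∀ f, τ (τ' f) = f := by
    intro f
    obtain ⟨z, rfl⟩ := γ₁_surjective n f
    rw [hτ', hτ, hσ]
  have hτ'τ : ∀ f, τ' (τ f) = f := by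
    intro f
    obtain ⟨z, rfl⟩ := γ₂_surjective n f
    rw [hτ, hτ', hσ]
  -- congruence of `τ` and `τ'`
  have hcong : X ^ (n + 1) ∣ τ X - τ' X := by
    have h1 : τ X = γ₁ k n (σ (ArSing.x k (2 * n + 1))) := by rw [← hτ, γ₂_x]
    have h3 : τ' X = γ₂ k n (σ (ArSing.x k (2 * n + 1))) := by rw [← hτ', γ₁_x]
    rw [h1, h3]
    exact γ_congr _
  have hceq : coeff 1 (τ X) = coeff 1 (τ' X) := coeff_one_eq_of_dvd hn hcong
  -- the linear coefficient squares to one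
  have hc2 : coeff 1 (τ X) ^ 2 = 1 := by
    obtain ⟨u, hu⟩ := X_dvd_algHom τ
    obtain ⟨u', hu'⟩ := X_dvd_algHom τ'
    have h1 : coeff 1 (τ X) = constantCoeff u := by
      rw [hu]
      change coeff (0 + 1) (X * u) = _
      rw [coeff_succ_X_mul, coeff_zero_eq_constantCoeff_apply]
    have h3 : coeff 1 (τ' X) = constantCoeff u' := by
      rw [hu']
      change coeff (0 + 1) (X * u') = _
      rw [coeff_succ_X_mul, coeff_zero_eq_constantCoeff_apply]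
    have h4 : X * (u * τ u') = X * 1 := by
      have := hττ' X
      rw [hu', map_mul, hu] at this
      linear_combination this
    have h5 := mul_left_cancel₀ X_ne_zero h4
    have h6 := congrArg (constantCoeff (R := k)) h5
    rw [map_mul, cc_algHom_P, map_one, ← h1, ← h3, ← hceq] at h6
    rw [pow_two]; exact h6
  let τE : PowerSeries k ≃ₐ[k] PowerSeries k := AlgEquiv.ofAlgHom τ τ'
    (AlgHom.ext hττ') (AlgHom.ext hτ'τ)
  rcases sq_eq_one_cases hc2 with hc | hc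
  · -- tangent to the identity: conjugate to the pure swap
    have hτ1 : X ^ (n + 1) ∣ τ X - X :=
      unip h2 (n + 1) τ τ' (hττ' X) hc hcong
    have hτ'1 : X ^ (n + 1) ∣ (AlgHom.id k (PowerSeries k)) X - τ' X := by
      have : (AlgHom.id k (PowerSeries k)) X - τ' X = (τ X - τ' X) - (τ X - X) := by
        rw [AlgHom.id_apply]; ring
      rw [this]; exact dvd_sub hcong hτ1
    have hτ1' : X ^ (n + 1) ∣ (AlgHom.id k (PowerSeries k)) X - τ X := by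
      have : (AlgHom.id k (PowerSeries k)) X - τ X = -(τ X - X) := by
        rw [AlgHom.id_apply]; ring
      rw [this]; exact (dvd_neg).mpr hτ1
    have hX : X ∣ (AlgHom.id k (PowerSeries k)) X := by rw [AlgHom.id_apply]
    have hf := pair_congr n (AlgHom.id k (PowerSeries k)) τ' hX (X_dvd_algHom τ') hτ'1
    have hg := pair_congr n (AlgHom.id k (PowerSeries k)) τ hX (X_dvd_algHom τ) hτ1'
    let ψ := tequivOfPair h2 n ((AlgHom.id k (PowerSeries k)).comp (γ₁ k n)) (τ'.comp (γ₂ k n))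
      ((AlgHom.id k (PowerSeries k)).comp (γ₁ k n)) (τ.comp (γ₂ k n)) hf hg
      (fun z => by
        rw [AlgHom.comp_apply, AlgHom.id_apply, γ₁_thomOfPair, AlgHom.comp_apply, AlgHom.id_apply])
      (fun z => by
        rw [AlgHom.comp_apply, γ₂_thomOfPair, AlgHom.comp_apply, hτ'τ])
      (fun z => by
        rw [AlgHom.comp_apply, AlgHom.id_apply, γ₁_thomOfPair, AlgHom.comp_apply, AlgHom.id_apply])
      (fun z => by
        rw [AlgHom.comp_apply, γ₂_thomOfPair, AlgHom.comp_apply, hττ'])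
    have hψ1 : ∀ z, γ₁ k n (ψ z) = γ₁ k n z := fun z => γ₁_thomOfPair h2 n _ _ hf z
    have hψ2 : ∀ z, γ₂ k n (ψ z) = τ' (γ₂ k n z) := fun z => γ₂_thomOfPair h2 n _ _ hf z
    have hψs1 : ∀ z, γ₁ k n (ψ.symm z) = γ₁ k n z := fun z => γ₁_thomOfPair h2 n _ _ hg z
    have hψs2 : ∀ z, γ₂ k n (ψ.symm z) = τ (γ₂ k n z) := fun z => γ₂_thomOfPair h2 n _ _ hg z
    have hθ1 : ∀ z, γ₁ k n (ψ.symm (σ (ψ z))) = γ₂ k n z := by
      intro z
      rw [hψs1, ← hτ, hψ2, hττ']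
    have hθ2 : ∀ z, γ₂ k n (ψ.symm (σ (ψ z))) = γ₁ k n z := by
      intro z
      rw [hψs2, ← hτ', hψ1, hττ']
    refine ⟨ψ, Or.inl ?_⟩
    apply tvalues h2 (fun z => ψ.symm (σ (ψ z)))
    · rw [hθ1, γ₂_x, γ₁_x]
    · rw [hθ2, γ₁_x, γ₂_x]
    · rw [hθ1, γ₂_y, map_neg, γ₁_y]
    · rw [hθ2, γ₁_y, map_neg, γ₂_y, neg_neg]
  · -- anti-tangent: conjugate to the swap composed with `t ↦ -t`
    set w : PowerSeries k := C (2⁻¹ : k) * (X - τ X) with hw
    have hτX0 : constantCoeff (τ X) = 0 := X_dvd_iff.mp (X_dvd_algHom τ)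
    have hw0 : constantCoeff w = 0 := by
      rw [hw, map_mul, map_sub, constantCoeff_X, hτX0, sub_zero, mul_zero]
    have hw1 : coeff 1 w ≠ 0 := by
      rw [hw, coeff_C_mul, map_sub, coeff_one_X, hc]
      have : (2⁻¹ : k) * (1 - -1) = 1 := by field_simp; norm_num
      rw [this]; exact one_ne_zero
    obtain ⟨θ, hθX⟩ := exists_algEquiv_X w hw0 hw1
    -- `ψ₁ = τ ∘ θ ∘ (t ↦ -t)`, `ψ₂ = θ`
    let ψ₁ : PowerSeries k ≃ₐ[k] PowerSeries k := (ngE.trans θ).trans τE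
    have hψ₁app : ∀ f, ψ₁ f = τ (θ (ng f)) := fun f => rfl
    have hψ₁symm : ∀ f, ψ₁.symm f = ng (θ.symm (τ' f)) := fun f => rfl
    have hττX : X ^ (n + 1) ∣ τ (τ X) - X := by
      have h1 := dvd_algHom_of_dvd τ (X_dvd_algHom τ) hcong
      rwa [map_sub, hττ'] at h1
    have hψcong : X ^ (n + 1) ∣ ψ₁.toAlgHom X - θ.toAlgHom X := by
      change X ^ (n + 1) ∣ ψ₁ X - θ X
      rw [hψ₁app, ng_X, map_neg, map_neg, hθX, hw, map_mul, algHom_C, map_sub]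
      have : -(C (2⁻¹ : k) * (τ X - τ (τ X))) - C (2⁻¹ : k) * (X - τ X) =
          C (2⁻¹ : k) * (τ (τ X) - X) := by ring
      rw [this]
      exact Dvd.dvd.mul_left hττX _
    have hψcong' : X ^ (n + 1) ∣ ψ₁.symm.toAlgHom X - θ.symm.toAlgHom X :=
      congr_symm (n + 1) ψ₁ θ hψcong
    have hf := pair_congr n ψ₁.toAlgHom θ.toAlgHom (X_dvd_algEquiv ψ₁) (X_dvd_algEquiv θ) hψcong
    have hg := pair_congr n ψ₁.symm.toAlgHom θ.symm.toAlgHom (X_dvd_algEquiv ψ₁.symm)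
      (X_dvd_algEquiv θ.symm) hψcong'
    let ψ := tequivOfPair h2 n (ψ₁.toAlgHom.comp (γ₁ k n)) (θ.toAlgHom.comp (γ₂ k n))
      (ψ₁.symm.toAlgHom.comp (γ₁ k n)) (θ.symm.toAlgHom.comp (γ₂ k n)) hf hg
      (fun z => by
        rw [AlgHom.comp_apply, γ₁_thomOfPair, AlgHom.comp_apply]
        exact ψ₁.apply_symm_apply _)
      (fun z => by
        rw [AlgHom.comp_apply, γ₂_thomOfPair, AlgHom.comp_apply]
        exact θ.apply_symm_apply _)
      (fun z => by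
        rw [AlgHom.comp_apply, γ₁_thomOfPair, AlgHom.comp_apply]
        exact ψ₁.symm_apply_apply _)
      (fun z => by
        rw [AlgHom.comp_apply, γ₂_thomOfPair, AlgHom.comp_apply]
        exact θ.symm_apply_apply _)
    have hψ1 : ∀ z, γ₁ k n (ψ z) = ψ₁ (γ₁ k n z) := fun z => γ₁_thomOfPair h2 n _ _ hf z
    have hψ2 : ∀ z, γ₂ k n (ψ z) = θ (γ₂ k n z) := fun z => γ₂_thomOfPair h2 n _ _ hf z
    have hψs1 : ∀ z, γ₁ k n (ψ.symm z) = ψ₁.symm (γ₁ k n z) := fun z => γ₁_thomOfPair h2 n _ _ hg z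
    have hψs2 : ∀ z, γ₂ k n (ψ.symm z) = θ.symm (γ₂ k n z) := fun z => γ₂_thomOfPair h2 n _ _ hg z
    have hθ1 : ∀ z, γ₁ k n (ψ.symm (σ (ψ z))) = rescale (-1 : k) (γ₂ k n z) := by
      intro z
      rw [hψs1, ← hτ, hψ2, hψ₁symm, hτ'τ, AlgEquiv.symm_apply_apply, ng_apply]
    have hθ2 : ∀ z, γ₂ k n (ψ.symm (σ (ψ z))) = rescale (-1 : k) (γ₁ k n z) := by
      intro z
      rw [hψs2, ← hτ', hψ1, hψ₁app, hτ'τ, AlgEquiv.symm_apply_apply, ng_apply]
    refine ⟨ψ, Or.inr ?_⟩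
    apply tvalues h2 (fun z => ψ.symm (σ (ψ z)))
    · rw [hθ1, γ₂_x, rescale_neg_one_X, map_neg, γ₁_x]
    · rw [hθ2, γ₁_x, rescale_neg_one_X, map_neg, γ₂_x]
    · rw [hθ1, γ₂_y, map_neg, rescale_neg_one_X_pow, map_neg, map_mul, map_pow, map_neg, map_one, γ₁_y]
    · rw [hθ2, γ₁_y, rescale_neg_one_X_pow, map_neg, map_mul, map_pow, map_neg, map_one, γ₂_y]
      ring

end swap

end H5ArSing
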