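import Mathlib
import Groth.Agent.Lib.Helper5.ArSing.Tac.Swap

set_option autoImplicit false
universe u

namespace H5ArSing

open PowerSeries

theorem gen_even_mul {R : Type*} [CommRing R] {m : ℕ} (hm : Even m) (y : R) :
    (-1 : R) ^ m * y = y := by rw [hm.neg_one_pow, one_mul]

theorem gen_odd_mul {R : Type*} [CommRing R] {m : ℕ} (hm : Odd m) (y : R) :
    (-1 : R) ^ m * y = -y := by rw [hm.neg_one_pow, neg_one_mul]

theorem main14082 (k : Type u) [Field k] [IsAlgClosed k] (r : ℕ)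
    (h2 : (2 : k) ≠ 0) (hodd : Odd r) (h3 : 3 ≤ r)
    (σ : ArSing.ring k r ≃ₐ[k] ArSing.ring k r) (hσ : ∀ a, σ (σ a) = a) (hne : σ ≠ AlgEquiv.refl) :
    ∃ φ : ArSing.ring k r ≃ₐ[k] ArSing.ring k r,
      (φ.symm (σ (φ (ArSing.x k r))) = ArSing.x k r ∧ φ.symm (σ (φ (ArSing.y k r))) = -ArSing.y k r) ∨
      (φ.symm (σ (φ (ArSing.x k r))) = -ArSing.x k r ∧ φ.symm (σ (φ (ArSing.y k r))) = ArSing.y k r) ∨
      (φ.symm (σ (φ (ArSing.x k r))) = -ArSing.x k r ∧ φ.symm (σ (φ (ArSing.y k r))) = -ArSing.y k r) := by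
  obtain ⟨n, rfl⟩ := hodd
  have hn : 1 ≤ n := by omega
  have h0 : γ₁ k n (σ (tu k n)) * γ₁ k n (σ (tv k n)) = 0 := by
    rw [← map_mul, ← map_mul, tu_mul_tv h2, map_zero, map_zero]
  rcases Nat.even_or_odd (n + 1) with hpar | hpar
  · have hp : ((-1 : ArSing.ring k (2 * n + 1)) ^ (n + 1)) * ArSing.y k (2 * n + 1)
        = ArSing.y k (2 * n + 1) := gen_even_mul hpar _
    rcases mul_eq_zero.mp h0 with h | h
    · obtain ⟨φ, hφ | hφ⟩ := tac_swap h2 n hn σ hσ h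
      · exact ⟨φ, Or.inl hφ⟩
      · refine ⟨φ, Or.inr (Or.inr ⟨hφ.1, hφ.2.trans ?_⟩)⟩
        exact congrArg Neg.neg hp
    · obtain ⟨φ, hφ⟩ := tac_preserve h2 n hn σ hσ hne h
      exact ⟨φ, Or.inr (Or.inl ⟨hφ.1, hφ.2.trans hp⟩)⟩
  · have hp : ((-1 : ArSing.ring k (2 * n + 1)) ^ (n + 1)) * ArSing.y k (2 * n + 1)
        = -ArSing.y k (2 * n + 1) := gen_odd_mul hpar _
    rcases mul_eq_zero.mp h0 with h | h
    · obtain ⟨φ, hφ | hφ⟩ := tac_swap h2 n hn σ hσ h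
      · exact ⟨φ, Or.inl hφ⟩
      · refine ⟨φ, Or.inr (Or.inl ⟨hφ.1, hφ.2.trans ?_⟩)⟩
        exact (congrArg Neg.neg hp).trans (neg_neg _)
    · obtain ⟨φ, hφ⟩ := tac_preserve h2 n hn σ hσ hne h
      exact ⟨φ, Or.inr (Or.inr ⟨hφ.1, hφ.2.trans hp⟩)⟩

end H5ArSing
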